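import Groth.Agent.MovGenLib.Rel
import Groth.Agent.MovSmoothFn.Alg

/-!
A generic linear function on a smooth affine variety has only finitely many critical points.
-/

set_option autoImplicit false
set_option backward.isDefEq.respectTransparency false
universe u
open TensorProduct KaehlerDifferential Module

namespace Groth.Agent.MovGenLib

variable (k : Type u) [Field k]

/-- The differentials of generators span after localization. -/
theorem span_differentials {A : Type u} [CommRing A] [Algebra k A] {n : ℕ} (x : Fin n → A)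
    (hx : Function.Surjective (MvPolynomial.aeval x : MvPolynomial (Fin n) k →ₐ[k] A)) (f : A) :
    ∀ w : Ω[Localization.Away f⁄k], w ∈ Submodule.span (Localization.Away f)
      (Set.range fun i => D k (Localization.Away f) (algebraMap A (Localization.Away f) (x i))) := by
  let T := Localization.Away f
  let N := Submodule.span T (Set.range fun i => D k T (algebraMap A T (x i)))
  have hA : ∀ y : A, D k T (algebraMap A T y) ∈ N := fun y => by
    obtain ⟨p, rfl⟩ := hx y
    induction p using MvPolynomial.induction_on with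
    | C c => simp [← IsScalarTower.algebraMap_apply k A T]
    | add p q hp hq => simp only [map_add]; exact add_mem hp hq
    | mul_X p i hp =>
      simp only [map_mul, MvPolynomial.aeval_X, Derivation.leibniz]
      exact add_mem (Submodule.smul_mem _ _ (Submodule.subset_span ⟨i, rfl⟩)) (Submodule.smul_mem _ _ hp)
  intro w
  have hw : w ∈ Submodule.span T (Set.range (D k T)) := KaehlerDifferential.span_range_derivation k T ▸ trivial
  refine (Submodule.span_le.2 ?_ : Submodule.span T (Set.range (D k T)) ≤ N) hw
  rintro _ ⟨z, rfl⟩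
  obtain ⟨⟨y, s⟩, hys⟩ := IsLocalization.surj (Submonoid.powers f) z
  have hu : IsUnit (algebraMap A T s) := IsLocalization.map_units T s
  have h1 : D k T (z * algebraMap A T s) ∈ N := hys ▸ hA y
  rw [Derivation.leibniz] at h1
  have h2 : algebraMap A T (s : A) • D k T z ∈ N := (N.add_mem_iff_right (Submodule.smul_mem _ _ (hA s))).1 h1
  exact (Submodule.smul_mem_iff_of_isUnit N hu).1 h2

/-- The critical points of a generic linear function are closed points. -/
theorem exists_poly_critical {A : Type u} [CommRing A] [Algebra k A] {n : ℕ} (x : Fin (n + 1) → A)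
    (hx : Function.Surjective (MvPolynomial.aeval x : MvPolynomial (Fin (n + 1)) k →ₐ[k] A))
    (f : A) [Algebra.IsStandardSmooth k (Localization.Away f)] {r : ℕ}
    (b : Basis (Fin r) (Localization.Away f) Ω[Localization.Away f⁄k]) :
    ∃ g : MvPolynomial (Fin (n + 1)) k, g ≠ 0 ∧
      ∀ a : Fin (n + 1) → k, MvPolynomial.eval a g ≠ 0 → ∀ Q : Ideal (Localization.Away f), Q.IsPrime →
        (∀ l, b.repr (D k (Localization.Away f) (algebraMap A (Localization.Away f) (∑ i, a i • x i))) l ∈ Q) →
        Algebra.IsIntegral k (Localization.Away f ⧸ Q) := by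
  classical
  let T := Localization.Away f
  rcases r with _ | m
  · refine ⟨1, one_ne_zero, fun a _ Q hQ _ => ?_⟩
    have h0 : Algebra.trdeg k (T ⧸ Q) = 0 := le_antisymm (by simpa using trdeg_quotient_le k b Q) zero_le
    haveI : Algebra.IsAlgebraic k (T ⧸ Q) := trdeg_eq_zero_iff.1 h0
    infer_instance
  let ξ : Fin (n + 1) → T := fun i => algebraMap A T (x i)
  have hspanD := span_differentials k x hx f
  haveI : Algebra.FiniteType k A := Algebra.FiniteType.of_surjective _ hx
  haveI : Algebra.FiniteType k T := inferInstance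
  obtain ⟨s, hs⟩ := Algebra.FiniteType.out (R := k) (A := T)
  choose P hP0 hPJ using fun t : s => exists_relation k ξ b hspanD (t : T)
  let q : s → Polynomial (MvPolynomial (Fin (n + 1)) k) := fun t => MvPolynomial.finSuccEquiv k (n + 1) (P t)
  have hq0 : ∀ t, q t ≠ 0 := fun t h => hP0 t ((MvPolynomial.finSuccEquiv k (n + 1)).injective (by rw [map_zero]; exact h))
  refine ⟨∏ t, (q t).leadingCoeff, Finset.prod_ne_zero_iff.2 fun t _ => Polynomial.leadingCoeff_ne_zero.2 (hq0 t),
    fun a ha Q hQ hcrit => ?_⟩
  let π : T →ₐ[k] T ⧸ Q := Ideal.Quotient.mkₐ k Q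
  have halg : ∀ t : s, IsAlgebraic k (π (t : T)) := by
    intro t
    let evA : MvPolynomial (Fin (n + 1)) T →ₐ[k] T ⧸ Q :=
      π.comp ((MvPolynomial.aeval (fun i => algebraMap k T (a i)) : MvPolynomial (Fin (n + 1)) T →ₐ[T] T).restrictScalars k)
    have hJ : Ideal.span (Set.range fun l : Fin (m + 1) =>
        ∑ i : Fin (n + 1), MvPolynomial.C (b.repr (D k T (ξ i)) l) * MvPolynomial.X i) ≤ RingHom.ker evA := by
      rw [Ideal.span_le]
      rintro _ ⟨l, rfl⟩
      show evA _ = 0
      show Ideal.Quotient.mk Q (MvPolynomial.aeval (fun i => algebraMap k T (a i)) _) = 0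
      rw [Ideal.Quotient.eq_zero_iff_mem]
      convert hcrit l using 1
      simp only [map_sum, map_mul, MvPolynomial.aeval_C, MvPolynomial.aeval_X, Algebra.algebraMap_self, RingHom.id_apply]
      rw [Finsupp.finsetSum_apply]
      refine Finset.sum_congr rfl fun i _ => ?_
      have hsm : algebraMap A T (a i • x i) = a i • ξ i := map_smul (IsScalarTower.toAlgHom k A T) (a i) (x i)
      rw [hsm, Derivation.map_smul, ← algebraMap_smul T (a i), map_smul, Finsupp.smul_apply, smul_eq_mul, mul_comm]
      erw [MvPolynomial.aeval_C]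
      rfl
    have h1 := hJ (hPJ t)
    let φ₁ : MvPolynomial (Fin (n + 2)) k →ₐ[k] T ⧸ Q :=
      evA.comp (MvPolynomial.aeval (Fin.cases (MvPolynomial.C (t : T)) MvPolynomial.X : Fin (n + 2) → MvPolynomial (Fin (n + 1)) T))
    let φ₂ : MvPolynomial (Fin (n + 2)) k →ₐ[k] T ⧸ Q :=
      (Polynomial.aeval (π (t : T))).comp ((Polynomial.mapAlgHom (MvPolynomial.aeval a)).comp
        (MvPolynomial.finSuccEquiv k (n + 1)).toAlgHom)
    have hφ : φ₁ = φ₂ := by
      refine MvPolynomial.algHom_ext fun i => ?_
      cases i using Fin.cases with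
      | zero => simp [φ₁, φ₂, evA, π, MvPolynomial.finSuccEquiv_X_zero]
      | succ i => simp [φ₁, φ₂, evA, π, MvPolynomial.finSuccEquiv_X_succ]
    refine ⟨(q t).map (MvPolynomial.eval a), fun h => ?_, ?_⟩
    · have := congrArg (fun p => Polynomial.coeff p (q t).natDegree) h
      rw [Polynomial.coeff_map, Polynomial.coeff_zero] at this
      rw [map_prod] at ha
      exact Finset.prod_ne_zero_iff.1 ha t (Finset.mem_univ _) this
    · have h2 : φ₂ (P t) = 0 := by rw [← hφ]; exact h1
      exact h2
  haveI := hQ
  refine ⟨fun z => ?_⟩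
  obtain ⟨z, rfl⟩ := Ideal.Quotient.mk_surjective z
  have hle : Algebra.adjoin k (s : Set T) ≤ (integralClosure k (T ⧸ Q)).comap π :=
    Algebra.adjoin_le fun y hy => (halg ⟨y, hy⟩).isIntegral
  exact hle (hs ▸ Algebra.mem_top (x := z))

theorem finite_critical {T : Type u} [CommRing T] [Algebra k T] [IsNoetherianRing T] (I : Ideal T)
    (h : ∀ Q : Ideal T, Q.IsPrime → I ≤ Q → Algebra.IsIntegral k (T ⧸ Q)) :
    {Q : PrimeSpectrum T | I ≤ Q.asIdeal}.Finite := by
  refine ((Ideal.finite_minimalPrimes_of_isNoetherianRing T I).preimage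
    (Function.Injective.injOn fun _ _ h => PrimeSpectrum.ext h : Set.InjOn (fun Q : PrimeSpectrum T => Q.asIdeal) _)).subset
    fun Q hQ => ?_
  refine ⟨⟨Q.isPrime, hQ⟩, fun P hP hPQ => ?_⟩
  haveI := hP.1
  haveI := h P hP.1 hP.2
  haveI : P.IsMaximal := Ideal.Quotient.maximal_of_isField _ (isField_of_isIntegral_of_isField' (Field.toIsField k))
  exact ((‹P.IsMaximal›).eq_of_le Q.isPrime.ne_top hPQ).ge

theorem isMaximal_comap {A T : Type u} [CommRing A] [CommRing T] [Algebra k A] [Algebra k T] (φ : A →ₐ[k] T)
    (Q : Ideal T) [Q.IsPrime] [Algebra.IsIntegral k (T ⧸ Q)] : (Q.comap φ).IsMaximal := by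
  haveI : (Q.comap φ).IsPrime := Ideal.IsPrime.comap _
  let ψ : A ⧸ Q.comap φ →ₐ[k] T ⧸ Q :=
    Ideal.Quotient.liftₐ (Q.comap φ) ((Ideal.Quotient.mkₐ k Q).comp φ) fun _ h => Ideal.Quotient.eq_zero_iff_mem.2 h
  have hψ : Function.Injective ψ := by
    refine (injective_iff_map_eq_zero _).2 fun z hz => ?_
    obtain ⟨z, rfl⟩ := Ideal.Quotient.mk_surjective z
    exact Ideal.Quotient.eq_zero_iff_mem.2 (Ideal.Quotient.eq_zero_iff_mem.1 hz : φ z ∈ Q)
  haveI : Algebra.IsIntegral k (A ⧸ Q.comap φ) := Algebra.IsIntegral.of_injective ψ hψ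
  exact Ideal.Quotient.maximal_of_isField _ (isField_of_isIntegral_of_isField' (Field.toIsField k))

open Polynomial in
/-- Away from its critical points a function is smooth. -/
theorem exists_smooth_away {A : Type u} [CommRing A] [Algebra k A] [Algebra.FiniteType k A] (f h : A)
    [Algebra.IsStandardSmooth k (Localization.Away f)] {r : ℕ}
    (b : Basis (Fin r) (Localization.Away f) Ω[Localization.Away f⁄k])
    (Q : Ideal (Localization.Away f)) [Q.IsPrime] (l : Fin r)
    (hl : b.repr (D k (Localization.Away f) (algebraMap A (Localization.Away f) h)) l ∉ Q) :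
    ∃ g : A, g ∉ Q.comap (algebraMap A (Localization.Away f)) ∧
      ((algebraMap A (Localization.Away g)).comp (aeval (R := k) h).toRingHom).Smooth := by
  let T := Localization.Away f
  let p := Q.comap (algebraMap A T)
  have hfp : f ∉ p := fun hf => (‹Q.IsPrime›).ne_top
    (Ideal.eq_top_of_isUnit_mem _ hf (IsLocalization.Away.algebraMap_isUnit f))
  haveI : Algebra.FinitePresentation k A := Algebra.FinitePresentation.of_finiteType.1 inferInstance
  haveI : p.IsPrime := Ideal.IsPrime.comap _
  let L := Localization.AtPrime p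
  haveI : Algebra.IsSmoothAt k p :=
    Algebra.basicOpen_subset_smoothLocus_iff_smooth.2 inferInstance
      (show (⟨p, inferInstance⟩ : PrimeSpectrum A) ∈ PrimeSpectrum.basicOpen f from hfp)
  letI : Algebra T L := (IsLocalization.Away.lift (g := algebraMap A L) f
    (IsLocalization.map_units L (⟨f, hfp⟩ : p.primeCompl))).toAlgebra
  haveI : IsScalarTower A T L := IsScalarTower.of_algebraMap_eq' (IsLocalization.Away.lift_comp f _).symm
  haveI : IsScalarTower k T L := IsScalarTower.of_algebraMap_eq fun c => by
    rw [IsScalarTower.algebraMap_apply k A T, ← IsScalarTower.algebraMap_apply A T L, ← IsScalarTower.algebraMap_apply]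
  haveI : IsLocalization (p.primeCompl.map (algebraMap A T)) L :=
    IsLocalization.isLocalization_of_submonoid_le T L (Submonoid.powers f) p.primeCompl
      (Submonoid.powers_le.2 hfp)
  haveI : Algebra.FormallyEtale T L := Algebra.FormallyEtale.of_isLocalization (p.primeCompl.map (algebraMap A T))
  let e := (KaehlerDifferential.isBaseChange_of_formallyEtale k T L).equiv
  let bL : Basis (Fin r) L Ω[L⁄k] := (b.baseChange L).map e
  haveI : Module.Finite L Ω[L⁄k] := Module.Finite.of_basis bL
  have hrepr : bL.repr (D k L (algebraMap A L h)) l = algebraMap T L (b.repr (D k T (algebraMap A T h)) l) := by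
    have he : e.symm (D k L (algebraMap A L h)) = 1 ⊗ₜ[T] D k T (algebraMap A T h) := by
      rw [LinearEquiv.symm_apply_eq, IsScalarTower.algebraMap_apply A T L]
      erw [IsBaseChange.equiv_tmul]
      rw [one_smul]
      exact (KaehlerDifferential.map_D k k T L _).symm
    rw [Basis.map_repr, LinearEquiv.trans_apply, he, Basis.baseChange_repr_tmul, Algebra.smul_def, mul_one]
  have hQ : (IsLocalRing.maximalIdeal L).comap (algebraMap T L) = Q := by
    haveI : ((IsLocalRing.maximalIdeal L).comap (algebraMap T L)).IsPrime := Ideal.IsPrime.comap _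
    rw [← IsLocalization.map_under (Submonoid.powers f) T ((IsLocalRing.maximalIdeal L).comap (algebraMap T L)),
      ← IsLocalization.map_under (Submonoid.powers f) T Q]
    refine congrArg (Ideal.map (algebraMap A T)) ?_
    show ((IsLocalRing.maximalIdeal L).comap (algebraMap T L)).comap (algebraMap A T) = p
    rw [Ideal.comap_comap, ← IsScalarTower.algebraMap_eq]
    exact Localization.AtPrime.comap_maximalIdeal
  letI : Algebra k[X] A := (aeval (R := k) h).toRingHom.toAlgebra
  haveI : IsScalarTower k k[X] A := IsScalarTower.of_algHom (aeval (R := k) h)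
  haveI : Algebra.FinitePresentation k[X] A :=
    Algebra.FinitePresentation.of_restrict_scalars_finitePresentation k _ _
  haveI : IsScalarTower k k[X] L := IsScalarTower.of_algebraMap_eq fun c => by
    rw [IsScalarTower.algebraMap_apply k[X] A L, ← IsScalarTower.algebraMap_apply k k[X] A,
      ← IsScalarTower.algebraMap_apply]
  haveI : Algebra.IsSmoothAt k[X] p := MovSmoothFn.formallySmooth_polynomial k L (by
    rw [IsScalarTower.algebraMap_apply k[X] A L, show algebraMap k[X] A X = h from aeval_X _]
    intro h0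
    have h2 := congrArg (fun z => (bL.baseChange (IsLocalRing.ResidueField L)).repr z l) h0
    erw [Basis.baseChange_repr_tmul, map_zero] at h2
    rw [hrepr, Algebra.smul_def, mul_one, Finsupp.zero_apply] at h2
    exact hl (hQ ▸ (IsLocalRing.residue_eq_zero_iff _).1 h2))
  obtain ⟨g, hg, hgs⟩ := Algebra.IsSmoothAt.exists_notMem_smooth k[X] p
  refine ⟨g, hg, ?_⟩
  rw [show (algebraMap A (Localization.Away g)).comp (aeval (R := k) h).toRingHom =
      algebraMap k[X] (Localization.Away g) from (IsScalarTower.algebraMap_eq _ _ _).symm]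
  exact RingHom.smooth_algebraMap.2 hgs

end Groth.Agent.MovGenLib
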