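import Groth.Agent.BertiniAff.Dim

/-!
A generic linear function on a smooth affine variety has only finitely many critical points.
-/

set_option autoImplicit false
set_option maxHeartbeats 800000
set_option backward.isDefEq.respectTransparency false
universe u
open TensorProduct KaehlerDifferential Module

namespace Groth.Agent.MovGenLib

variable (k : Type u) [Field k]

theorem trdeg_quotient_le {T : Type u} [CommRing T] [Algebra k T] [Algebra.IsStandardSmooth k T] {r : ℕ}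
    (b : Basis (Fin r) T Ω[T⁄k]) (P : Ideal T) [P.IsPrime] : Algebra.trdeg k (T ⧸ P) ≤ (r : Cardinal) := by
  obtain ⟨P₀, hP₀, hle⟩ := Ideal.exists_minimalPrimes_le (I := (⊥ : Ideal T)) (J := P) bot_le
  rw [← BertiniAff.trdeg_minimal k b P₀ hP₀]
  exact trdeg_le_of_surjective (R := k) (Ideal.Quotient.factorₐ k hle) (Ideal.Quotient.factor_surjective hle)

theorem absurd_of_equations {B E : Type u} [CommRing B] [IsDomain B] [CommRing E] [IsDomain E] [Algebra k B]
    [Algebra k E] [Algebra B E] [IsScalarTower k B E] {m : ℕ} (hB : Algebra.trdeg k B ≤ ((m + 1 : ℕ) : Cardinal))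
    (hinj : Function.Injective (algebraMap B E)) {n : ℕ} (a : Fin (n + 1) → E)
    (hgen : Algebra.adjoin B (Set.range a) = ⊤) (M : Matrix (Fin (m + 1)) (Fin (n + 1)) B)
    (heq : ∀ l, ∑ i, algebraMap B E (M l i) * a i = 0)
    (hfull : Submodule.span (FractionRing B) (Set.range fun i l => algebraMap B (FractionRing B) (M l i)) = ⊤)
    (hlow : ((n + 2 : ℕ) : Cardinal) ≤ Algebra.trdeg k E) : False := by
  obtain ⟨t, ht, htd⟩ := BertiniAff.trdeg_le_of_equations hinj a hgen M heq hfull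
  haveI : FaithfulSMul B E := (faithfulSMul_iff_algebraMap_injective B E).2 hinj
  rw [← trdeg_add_eq k B (A := E)] at hlow
  have := hlow.trans (add_le_add hB htd)
  norm_cast at this
  omega

theorem false_of_prime {T : Type u} [CommRing T] [Algebra k T] [Algebra.IsStandardSmooth k T] {n m : ℕ}
    (ξ : Fin (n + 1) → T) (b : Basis (Fin (m + 1)) T Ω[T⁄k])
    (hspanD : ∀ w : Ω[T⁄k], w ∈ Submodule.span T (Set.range fun i => D k T (ξ i))) (t : T)
    (𝔓 : Ideal (MvPolynomial (Fin (n + 1)) T)) [𝔓.IsPrime]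
    (hJP : ∀ l : Fin (m + 1), (∑ i : Fin (n + 1), MvPolynomial.C (b.repr (D k T (ξ i)) l) * MvPolynomial.X i) ∈ 𝔓)
    (h𝔓0 : ∀ P, (MvPolynomial.aeval (Fin.cases (MvPolynomial.C t) MvPolynomial.X : Fin (n + 2) → MvPolynomial (Fin (n + 1)) T) :
        MvPolynomial (Fin (n + 2)) k →ₐ[k] MvPolynomial (Fin (n + 1)) T) P ∈ 𝔓 → P = 0) : False := by
  classical
  let ι₀ : MvPolynomial (Fin (n + 2)) k →ₐ[k] (MvPolynomial (Fin (n + 1)) T) := MvPolynomial.aeval (Fin.cases (MvPolynomial.C t) MvPolynomial.X)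
  haveI : (𝔓.under T).IsPrime := Ideal.IsPrime.comap _
  let aa : Fin (n + 1) → ((MvPolynomial (Fin (n + 1)) T) ⧸ 𝔓) := fun i => Ideal.Quotient.mk 𝔓 (MvPolynomial.X i)
  have hgen : Algebra.adjoin (T ⧸ 𝔓.under T) (Set.range aa) = ⊤ := by
    rw [eq_top_iff]
    rintro z -
    obtain ⟨p, rfl⟩ := Ideal.Quotient.mk_surjective z
    induction p using MvPolynomial.induction_on with
    | C c => exact Subalgebra.algebraMap_mem _ (Ideal.Quotient.mk (𝔓.under T) c)
    | add p q hp hq => rw [map_add]; exact add_mem hp hq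
    | mul_X p i hp => rw [map_mul]; exact mul_mem hp (Algebra.subset_adjoin ⟨i, rfl⟩)
  let M : Matrix (Fin (m + 1)) (Fin (n + 1)) (T ⧸ 𝔓.under T) :=
    fun l i => Ideal.Quotient.mk (𝔓.under T) (b.repr (D k T (ξ i)) l)
  have heq : ∀ l, ∑ i, algebraMap (T ⧸ 𝔓.under T) ((MvPolynomial (Fin (n + 1)) T) ⧸ 𝔓) (M l i) * aa i = 0 := fun l => by
    have := Ideal.Quotient.eq_zero_iff_mem.2 (hJP l)
    rw [map_sum] at this
    refine Eq.trans (Finset.sum_congr rfl fun i _ => ?_) this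
    rw [map_mul]
    rfl
  have hfull : Submodule.span (FractionRing (T ⧸ 𝔓.under T))
      (Set.range fun i l => algebraMap (T ⧸ 𝔓.under T) (FractionRing (T ⧸ 𝔓.under T)) (M l i)) = ⊤ := by
    let Kf := FractionRing (T ⧸ 𝔓.under T)
    let col : Fin (n + 1) → (Fin (m + 1) → Kf) := fun i l => algebraMap (T ⧸ 𝔓.under T) Kf (M l i)
    let S := Submodule.span Kf (Set.range col)
    let ev : T →+* Kf := (algebraMap (T ⧸ 𝔓.under T) Kf).comp (Ideal.Quotient.mk (𝔓.under T))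
    have htail : ∀ w : Ω[T⁄k], (fun l => ev (b.repr w l) : Fin (m + 1) → Kf) ∈ S := by
      intro w
      have hw := hspanD w
      induction hw using Submodule.span_induction with
      | mem y hy =>
        obtain ⟨i, rfl⟩ := hy
        exact Submodule.subset_span ⟨i, rfl⟩
      | zero => convert S.zero_mem using 1; funext l; simp
      | add y z _ _ hy hz => convert add_mem hy hz using 1; funext l; simp
      | smul c y _ hy => convert Submodule.smul_mem S (ev c) hy using 1; funext l; simp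
    rw [eq_top_iff, ← (Pi.basisFun Kf (Fin (m + 1))).span_eq, Submodule.span_le]
    rintro _ ⟨l, rfl⟩
    show _ ∈ S
    convert htail (b l) using 1
    funext l'
    simp [ev, Finsupp.single_apply, Pi.single_apply, eq_comm]
  have hinjBE : Function.Injective (algebraMap (T ⧸ 𝔓.under T) ((MvPolynomial (Fin (n + 1)) T) ⧸ 𝔓)) := FaithfulSMul.algebraMap_injective _ _
  have hlow : ((n + 2 : ℕ) : Cardinal) ≤ Algebra.trdeg k ((MvPolynomial (Fin (n + 1)) T) ⧸ 𝔓) := by
    let χ : MvPolynomial (Fin (n + 2)) k →ₐ[k] ((MvPolynomial (Fin (n + 1)) T) ⧸ 𝔓) := (Ideal.Quotient.mkₐ k 𝔓).comp ι₀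
    have hχ : Function.Injective χ :=
      (injective_iff_map_eq_zero _).2 fun g hg => h𝔓0 g (Ideal.Quotient.eq_zero_iff_mem.1 hg)
    simpa using trdeg_le_of_injective χ hχ
  exact absurd_of_equations k (trdeg_quotient_le k b (𝔓.under T)) hinjBE aa hgen M heq hfull hlow

/-- Over the incidence variety every function is algebraic over the parameters. -/
theorem exists_relation {T : Type u} [CommRing T] [Algebra k T] [Algebra.IsStandardSmooth k T] {n m : ℕ}
    (ξ : Fin (n + 1) → T) (b : Basis (Fin (m + 1)) T Ω[T⁄k])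
    (hspanD : ∀ w : Ω[T⁄k], w ∈ Submodule.span T (Set.range fun i => D k T (ξ i))) (t : T) :
    ∃ P : MvPolynomial (Fin (n + 2)) k, P ≠ 0 ∧
      MvPolynomial.aeval (Fin.cases (MvPolynomial.C t) MvPolynomial.X : Fin (n + 2) → MvPolynomial (Fin (n + 1)) T) P ∈
        Ideal.span (Set.range fun l : Fin (m + 1) =>
          ∑ i : Fin (n + 1), MvPolynomial.C (b.repr (D k T (ξ i)) l) * MvPolynomial.X i) := by
  classical
  let cl : Fin (m + 1) → (MvPolynomial (Fin (n + 1)) T) := fun l => ∑ i : Fin (n + 1), MvPolynomial.C (b.repr (D k T (ξ i)) l) * MvPolynomial.X i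
  let J : Ideal (MvPolynomial (Fin (n + 1)) T) := Ideal.span (Set.range cl)
  let ι₀ : MvPolynomial (Fin (n + 2)) k →ₐ[k] (MvPolynomial (Fin (n + 1)) T) := MvPolynomial.aeval (Fin.cases (MvPolynomial.C t) MvPolynomial.X)
  show ∃ P, P ≠ 0 ∧ ι₀ P ∈ J
  by_contra hcon
  let χ₀ : MvPolynomial (Fin (n + 2)) k →+* (MvPolynomial (Fin (n + 1)) T) ⧸ J := (Ideal.Quotient.mk J).comp ι₀.toRingHom
  let Sm : Submonoid ((MvPolynomial (Fin (n + 1)) T) ⧸ J) := (nonZeroDivisors (MvPolynomial (Fin (n + 2)) k)).map χ₀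
  have hd : Disjoint ((⊥ : Ideal ((MvPolynomial (Fin (n + 1)) T) ⧸ J)) : Set ((MvPolynomial (Fin (n + 1)) T) ⧸ J)) (Sm : Set ((MvPolynomial (Fin (n + 1)) T) ⧸ J)) :=
    Set.disjoint_left.2 fun z hz hz' => by
      obtain ⟨g, hg, rfl⟩ := hz'
      exact hcon ⟨g, nonZeroDivisors.ne_zero hg, Ideal.Quotient.eq_zero_iff_mem.1 hz⟩
  obtain ⟨𝔔, h𝔔, -, h𝔔d⟩ : ∃ 𝔔 : Ideal ((MvPolynomial (Fin (n + 1)) T) ⧸ J), 𝔔.IsPrime ∧ ⊥ ≤ 𝔔 ∧
      Disjoint (𝔔 : Set ((MvPolynomial (Fin (n + 1)) T) ⧸ J)) (Sm : Set ((MvPolynomial (Fin (n + 1)) T) ⧸ J)) :=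
    Ideal.exists_le_prime_disjoint (α := (MvPolynomial (Fin (n + 1)) T) ⧸ J) ⊥ Sm hd
  haveI := h𝔔
  let 𝔓 := 𝔔.comap (Ideal.Quotient.mk J)
  haveI : 𝔓.IsPrime := Ideal.IsPrime.comap _
  have hJP : J ≤ 𝔓 := fun z hz => by
    show Ideal.Quotient.mk J z ∈ 𝔔
    rw [Ideal.Quotient.eq_zero_iff_mem.2 hz]
    exact zero_mem _
  have h𝔓0 : ∀ P, ι₀ P ∈ 𝔓 → P = 0 := fun P hP => not_not.1 fun hP0 =>
    Set.disjoint_left.1 h𝔔d hP ⟨P, mem_nonZeroDivisors_of_ne_zero hP0, rfl⟩
  exact false_of_prime k ξ b hspanD t 𝔓 (fun l => hJP (Ideal.subset_span ⟨l, rfl⟩)) h𝔓0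

end Groth.Agent.MovGenLib
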