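import Mathlib
import Groth.Agent.MovGenLib.Alg
import Groth.Agent.MovSmoothFn.Scheme

/-!
A morphism to the multiplicative group which is smooth on a smooth open, near a given point.
-/

set_option autoImplicit false
set_option backward.isDefEq.respectTransparency false

universe u

open CategoryTheory Limits AlgebraicGeometry KaehlerDifferential Module
open Groth.Agent.MovSmoothFn (kap ι_comp)

namespace Groth.Agent.MovGenLib

variable {k : Type u} [Field k]

theorem exists_over {A : Type u} [CommRing A] (f : A) (p : Ideal A) [p.IsPrime] (hf : f ∉ p) :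
    ∃ Q : PrimeSpectrum (Localization.Away f), Q.asIdeal.comap (algebraMap A _) = p := by
  have hd : Disjoint (Submonoid.powers f : Set A) p := Set.disjoint_left.2 fun y ⟨i, hi⟩ hy => hf
    (‹p.IsPrime›.mem_of_pow_mem i (show f ^ i ∈ p by rwa [show f ^ i = y from hi]))
  exact ⟨⟨p.map (algebraMap A _), IsLocalization.isPrime_of_isPrime_disjoint _ _ p inferInstance hd⟩,
    IsLocalization.under_map_of_isPrime_disjoint _ _ inferInstance hd⟩

open Polynomial in
theorem smooth_laurent {B : Type u} [CommRing B] (φ : (LaurentPolynomial k) →+* B)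
    (h : (φ.comp (algebraMap k[X] (LaurentPolynomial k))).Smooth) : φ.Smooth := by
  letI := φ.toAlgebra
  letI : Algebra k[X] B := (φ.comp (algebraMap k[X] (LaurentPolynomial k))).toAlgebra
  haveI : IsScalarTower k[X] (LaurentPolynomial k) B := IsScalarTower.of_algebraMap_eq' rfl
  haveI : Algebra.Smooth k[X] B := RingHom.smooth_algebraMap.1 h
  haveI : Algebra.FinitePresentation k[X] (LaurentPolynomial k) := IsLocalization.Away.finitePresentation (Polynomial.X : k[X])
  haveI : Algebra.FinitePresentation (LaurentPolynomial k) B :=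
    Algebra.FinitePresentation.of_restrict_scalars_finitePresentation k[X] _ _
  haveI : Algebra.FormallySmooth (LaurentPolynomial k) B :=
    Algebra.FormallySmooth.localization_base (R := k[X]) (Submonoid.powers (Polynomial.X : k[X]))
  exact RingHom.smooth_algebraMap.2 ⟨inferInstance, inferInstance⟩

theorem exists_nbhd [Infinite k] (X : Scheme.{u}) (f : X ⟶ Spec (CommRingCat.of k)) [LocallyOfFiniteType f]
    (U : X.Opens) [Smooth (U.ι ≫ f)] (x : X) (hx : x ∈ U → ¬ IsOpen ({x} : Set X)) :
    ∃ (V : X.Opens) (v : (↑V : Scheme.{u}) ⟶ Spec (CommRingCat.of (LaurentPolynomial k))),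
      x ∈ V ∧
      v ≫ Spec.map (CommRingCat.ofHom (algebraMap k (LaurentPolynomial k))) = V.ι ≫ f ∧
      Smooth (X.homOfLE (inf_le_left : V ⊓ U ≤ V) ≫ v) := by
  classical
  obtain ⟨_, ⟨W, hW, rfl⟩, hxW, -⟩ :=
    X.isBasis_affineOpens.exists_subset_of_mem_open (Set.mem_univ x) isOpen_univ
  haveI : JacobsonSpace X := LocallyOfFiniteType.jacobsonSpace f
  let A := Γ(X, W)
  letI : Algebra k A := (kap X f W).hom.toAlgebra
  haveI : Algebra.FiniteType k A := by
    refine (?_ : (kap X f W).hom.FiniteType)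
    rw [kap, ← Category.assoc, CommRingCat.hom_comp, CommRingCat.hom_comp]
    have h1 := f.finiteType_appLE (isAffineOpen_top _) hW (U := ⊤) le_top
    rw [show f.appLE ⊤ W le_top = f.appTop ≫ X.presheaf.map (homOfLE (le_top : W ≤ ⊤)).op from rfl,
      CommRingCat.hom_comp] at h1
    rw [← RingHom.comp_assoc]
    exact RingHom.FiniteType.comp h1
      (RingHom.FiniteType.of_surjective _ (Scheme.ΓSpecIso (CommRingCat.of k)).symm.commRingCatIsoToRingEquiv.surjective)
  haveI : IsNoetherianRing A := Algebra.FiniteType.isNoetherianRing k A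
  haveI : Algebra.FinitePresentation k A := Algebra.FinitePresentation.of_finiteType.1 inferInstance
  have hmem : ∀ (y : X) (hy : y ∈ W) (a : A),
      y ∈ X.basicOpen a ↔ a ∉ (hW.primeIdealOf ⟨y, hy⟩).asIdeal := fun y hy a => by
    have h := SetLike.ext_iff.1 (hW.fromSpec_preimage_basicOpen a) (hW.primeIdealOf ⟨y, hy⟩)
    rw [Scheme.Hom.mem_preimage, hW.fromSpec_primeIdealOf] at h
    exact h
  -- smooth at the points of `U`
  have hsm : ∀ (y : X) (hy : y ∈ W), y ∈ U → Algebra.IsSmoothAt k (hW.primeIdealOf ⟨y, hy⟩).asIdeal := by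
    intro y hy hyU
    have h1 : (U.ι ≫ f).stalkMap ⟨y, hyU⟩ |>.hom.FormallySmooth :=
      Scheme.Hom.mem_smoothLocus.1 (((U.ι ≫ f).smoothLocus_eq_top).ge (Set.mem_univ _))
    rw [Scheme.Hom.stalkMap_comp] at h1
    have h2 : (f.stalkMap y).hom.FormallySmooth :=
      (RingHom.FormallySmooth.respectsIso.cancel_right_isIso (f.stalkMap y) (U.ι.stalkMap ⟨y, hyU⟩)).1 h1
    have h3 := (formallySmooth_stalkMap_iff ⊤ (isAffineOpen_top _) W hW le_top hy).1 h2
    let ε := (Scheme.ΓSpecIso (CommRingCat.of k)).symm.commRingCatIsoToRingEquiv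
    let L := Localization.AtPrime (hW.primeIdealOf ⟨y, hy⟩).asIdeal
    let φ : Γ(Spec (CommRingCat.of k), ⊤) →+* L :=
      (algebraMap A L).comp (f.appLE ⊤ W le_top).hom
    have h4 : φ.FormallySmooth := by
      letI := (f.appLE ⊤ W le_top).hom.toAlgebra
      rw [show φ = algebraMap _ L from (IsScalarTower.algebraMap_eq _ _ _).symm, RingHom.formallySmooth_algebraMap]
      exact h3
    have h5 := RingHom.FormallySmooth.respectsIso.2 φ ε h4
    show Algebra.FormallySmooth k L
    rw [← RingHom.formallySmooth_algebraMap]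
    exact h5
  -- generators
  obtain ⟨n, x₁, hx₁⟩ : ∃ (n : ℕ) (x₁ : Fin (n + 1) → A),
      Function.Surjective (MvPolynomial.aeval x₁ : MvPolynomial (Fin (n + 1)) k →ₐ[k] A) := by
    obtain ⟨n, φ, hφ⟩ := Algebra.FiniteType.iff_quotient_mvPolynomial''.1 (inferInstance : Algebra.FiniteType k A)
    refine ⟨n, Fin.cons 0 fun i => φ (MvPolynomial.X i), fun a => ?_⟩
    obtain ⟨p, rfl⟩ := hφ a
    refine ⟨MvPolynomial.rename Fin.succ p, ?_⟩
    rw [MvPolynomial.aeval_rename]
    conv_rhs => rw [MvPolynomial.aeval_unique φ]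
    rfl
  -- charts
  let S : Set A := {g | Algebra.IsStandardSmooth k (Localization.Away g)}
  obtain ⟨s, hsS, hspan⟩ := (Submodule.fg_span_iff_fg_span_finset_subset (R := A) S).1
    (IsNoetherian.noetherian (Submodule.span A S))
  have hchart : ∀ (y : X) (hy : y ∈ W), y ∈ U → ∃ g : s, (g : A) ∉ (hW.primeIdealOf ⟨y, hy⟩).asIdeal := by
    intro y hy hyU
    haveI := hsm y hy hyU
    obtain ⟨g₁, hg₁, hg₁s⟩ := Algebra.IsSmoothAt.exists_notMem_isStandardSmooth k (hW.primeIdealOf ⟨y, hy⟩).asIdeal
    by_contra hcon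
    push Not at hcon
    exact hg₁ ((hspan.le.trans (Submodule.span_le.2 fun g hg => hcon ⟨g, hg⟩ :
      Submodule.span A (s : Set A) ≤ (hW.primeIdealOf ⟨y, hy⟩).asIdeal)) (Submodule.subset_span (show g₁ ∈ S from hg₁s)))
  have hbasis : ∀ g : s, ∃ r : ℕ, Nonempty (Basis (Fin r) (Localization.Away (g : A)) Ω[Localization.Away (g : A)⁄k]) := by
    intro g
    haveI : Algebra.IsStandardSmooth k (Localization.Away (g : A)) := hsS g.2
    exact ⟨_, ⟨(Module.Free.chooseBasis (Localization.Away (g : A)) Ω[Localization.Away (g : A)⁄k]).reindex (Fintype.equivFin _)⟩⟩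
  choose r hb using hbasis
  let b := fun g => (hb g).some
  have hG : ∀ g : s, ∃ G : MvPolynomial (Fin (n + 1)) k, G ≠ 0 ∧
      ∀ a : Fin (n + 1) → k, MvPolynomial.eval a G ≠ 0 → ∀ Q : Ideal (Localization.Away (g : A)), Q.IsPrime →
        (∀ l, (b g).repr (D k (Localization.Away (g : A))
          (algebraMap A (Localization.Away (g : A)) (∑ i, a i • x₁ i))) l ∈ Q) →
        Algebra.IsIntegral k (Localization.Away (g : A) ⧸ Q) := fun g => by
    haveI : Algebra.IsStandardSmooth k (Localization.Away (g : A)) := hsS g.2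
    exact exists_poly_critical k x₁ hx₁ (g : A) (b g)
  choose G hG0 hG using hG
  -- the condition at `x`
  have hℓ : ∃ ℓ : MvPolynomial (Fin (n + 1)) k, ℓ ≠ 0 ∧ ∀ a : Fin (n + 1) → k, MvPolynomial.eval a ℓ ≠ 0 →
      x ∈ U → ∃ (g : s) (Q : PrimeSpectrum (Localization.Away (g : A))),
        Q.asIdeal.comap (algebraMap A _) = (hW.primeIdealOf ⟨x, hxW⟩).asIdeal ∧
        (r g = 0 ∨ ∃ l, (b g).repr (D k (Localization.Away (g : A))
          (algebraMap A (Localization.Away (g : A)) (∑ i, a i • x₁ i))) l ∉ Q.asIdeal) := by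
    by_cases hxU : x ∈ U
    swap
    · exact ⟨1, one_ne_zero, fun a _ h => absurd h hxU⟩
    obtain ⟨g, hg⟩ := hchart x hxW hxU
    obtain ⟨Q, hQ⟩ := exists_over (g : A) _ hg
    rcases Nat.eq_zero_or_pos (r g) with h0 | hpos
    · exact ⟨1, one_ne_zero, fun a _ _ => ⟨g, Q, hQ, Or.inl h0⟩⟩
    let T := Localization.Away (g : A)
    let l : Fin (r g) := ⟨0, hpos⟩
    let c : Fin (n + 1) → T := fun i => (b g).repr (D k T (algebraMap A T (x₁ i))) l
    obtain ⟨i, hi⟩ : ∃ i, c i ∉ Q.asIdeal := by
      by_contra hcon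
      push Not at hcon
      have key : ∀ w : Ω[T⁄k], (b g).repr w l ∈ Q.asIdeal := fun w => by
        have hw := span_differentials k x₁ hx₁ (g : A) w
        induction hw using Submodule.span_induction with
        | mem y hy => obtain ⟨i, rfl⟩ := hy; exact hcon i
        | zero => simp
        | add y z _ _ hy hz => rw [map_add, Finsupp.add_apply]; exact add_mem hy hz
        | smul a y _ hy => rw [map_smul, Finsupp.smul_apply, smul_eq_mul]; exact Ideal.mul_mem_left _ _ hy
      have h1 := key (b g l)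
      rw [Basis.repr_self, Finsupp.single_eq_same] at h1
      exact Q.isPrime.ne_top ((Ideal.eq_top_iff_one _).2 h1)
    have hne : Ideal.Quotient.mkₐ k Q.asIdeal (c i) ≠ 0 := fun h => hi (Ideal.Quotient.eq_zero_iff_mem.1 h)
    obtain ⟨φ, hφ⟩ : ∃ φ : Module.Dual k (T ⧸ Q.asIdeal), φ (Ideal.Quotient.mkₐ k Q.asIdeal (c i)) ≠ 0 := by
      by_contra hcon
      push Not at hcon
      exact hne ((Module.forall_dual_apply_eq_zero_iff k _).1 hcon)
    let ℓ : MvPolynomial (Fin (n + 1)) k :=
      ∑ j, MvPolynomial.C (φ (Ideal.Quotient.mkₐ k Q.asIdeal (c j))) * MvPolynomial.X j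
    have hev : ∀ a : Fin (n + 1) → k, MvPolynomial.eval a ℓ = φ (Ideal.Quotient.mkₐ k Q.asIdeal
        ((b g).repr (D k T (algebraMap A T (∑ j, a j • x₁ j))) l)) := fun a => by
      simp only [ℓ, map_sum, map_mul, MvPolynomial.eval_C, MvPolynomial.eval_X, Finsupp.finsetSum_apply]
      refine Finset.sum_congr rfl fun j _ => ?_
      have hj : algebraMap A T (a j • x₁ j) = a j • algebraMap A T (x₁ j) :=
        map_smul (IsScalarTower.toAlgHom k A T) (a j) (x₁ j)
      rw [hj, Derivation.map_smul, ← algebraMap_smul T (a j), map_smul, Finsupp.smul_apply,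
        algebraMap_smul, map_smul, map_smul, smul_eq_mul, mul_comm]
    refine ⟨ℓ, fun h0 => hφ ?_, fun a ha _ => ⟨g, Q, hQ, Or.inr ⟨l, fun hl => ha ?_⟩⟩⟩
    · have := congrArg (MvPolynomial.eval (fun j => if j = i then (1 : k) else 0)) h0
      simpa [ℓ] using this
    · rw [hev, show Ideal.Quotient.mkₐ k Q.asIdeal _ = 0 from Ideal.Quotient.eq_zero_iff_mem.2 hl, map_zero]
  obtain ⟨ℓ, hℓ0, hℓ⟩ := hℓ
  -- choose the function
  obtain ⟨a, ha⟩ : ∃ a : Fin (n + 1) → k, MvPolynomial.eval a ((∏ g, G g) * ℓ) ≠ 0 := by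
    by_contra hcon
    push Not at hcon
    exact mul_ne_zero (Finset.prod_ne_zero_iff.2 fun g _ => hG0 g) hℓ0
      (MvPolynomial.funext fun a => by rw [hcon a, map_zero])
  rw [map_mul, map_prod] at ha
  have haG : ∀ g, MvPolynomial.eval a (G g) ≠ 0 := fun g =>
    Finset.prod_ne_zero_iff.1 (left_ne_zero_of_mul ha) g (Finset.mem_univ _)
  obtain ⟨a₀, ha₀⟩ : ∃ a₀ : k, algebraMap k A a₀ + ∑ i, a i • x₁ i ∉ (hW.primeIdealOf ⟨x, hxW⟩).asIdeal := by
    by_contra hcon
    push Not at hcon
    have h1 := sub_mem (hcon 1) (hcon 0)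
    rw [map_one, map_zero, zero_add, add_sub_cancel_right] at h1
    exact (hW.primeIdealOf ⟨x, hxW⟩).isPrime.ne_top ((Ideal.eq_top_iff_one _).2 h1)
  let h : A := algebraMap k A a₀ + ∑ i, a i • x₁ i
  have hD : ∀ g : A, D k (Localization.Away g) (algebraMap A _ h) =
      D k (Localization.Away g) (algebraMap A (Localization.Away g) (∑ i, a i • x₁ i)) := fun g => by
    simp [h, ← IsScalarTower.algebraMap_apply k A (Localization.Away g)]
  -- the critical points
  let I : ∀ g : s, Ideal (Localization.Away (g : A)) := fun g => Ideal.span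
    (Set.range fun l => (b g).repr (D k (Localization.Away (g : A))
      (algebraMap A (Localization.Away (g : A)) (∑ i, a i • x₁ i))) l)
  have hI : ∀ (g : s) (Q : Ideal (Localization.Away (g : A))), Q.IsPrime → I g ≤ Q →
      Algebra.IsIntegral k (Localization.Away (g : A) ⧸ Q) := fun g Q hQ hle =>
    hG g a (haG g) Q hQ fun l => hle (Ideal.subset_span ⟨l, rfl⟩)
  let pt : ∀ g : s, PrimeSpectrum (Localization.Away (g : A)) → X := fun g Q =>
    hW.fromSpec (PrimeSpectrum.comap (algebraMap A (Localization.Away (g : A))) Q)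
  let C : Set X := ⋃ g : s, pt g '' {Q | I g ≤ Q.asIdeal}
  have hCfin : C.Finite := Set.finite_iUnion fun g => by
    haveI : IsNoetherianRing (Localization.Away (g : A)) := IsLocalization.isNoetherianRing (Submonoid.powers (g : A)) _ inferInstance
    exact (finite_critical k (I g) (hI g)).image _
  have hCcl : ∀ y ∈ C, IsClosed ({y} : Set X) := by
    intro y hy
    obtain ⟨g, Q, hQ, rfl⟩ := Set.mem_iUnion.1 hy
    haveI := hI g Q.asIdeal Q.isPrime hQ
    haveI hmax : (Q.asIdeal.comap (IsScalarTower.toAlgHom k A (Localization.Away (g : A)))).IsMaximal :=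
      isMaximal_comap k _ _
    have hcl : IsClosed ({PrimeSpectrum.comap (algebraMap A (Localization.Away (g : A))) Q} : Set (PrimeSpectrum A)) :=
      (PrimeSpectrum.isClosed_singleton_iff_isMaximal _).2 hmax
    refine isClosed_singleton_of_isLocallyClosed_singleton ?_
    have := hcl.isLocallyClosed.image hW.fromSpec.isOpenEmbedding.isInducing
      hW.fromSpec.isOpenEmbedding.isOpen_range.isLocallyClosed
    rwa [Set.image_singleton] at this
  have hC'cl : IsClosed (C \ {x}) := by
    rw [← Set.biUnion_of_singleton (C \ {x})]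
    exact hCfin.sdiff.isClosed_biUnion fun y hy => hCcl y hy.1
  -- points of `W` and primes of charts
  have hpt : ∀ (y : X) (hy : y ∈ W) (g : s) (Q : PrimeSpectrum (Localization.Away (g : A))),
      Q.asIdeal.comap (algebraMap A _) = (hW.primeIdealOf ⟨y, hy⟩).asIdeal → pt g Q = y := by
    intro y hy g Q hQ
    have e : PrimeSpectrum.comap (algebraMap A (Localization.Away (g : A))) Q = hW.primeIdealOf ⟨y, hy⟩ :=
      PrimeSpectrum.ext hQ
    show hW.fromSpec _ = y
    rw [e]
    exact hW.fromSpec_primeIdealOf ⟨y, hy⟩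
  let V : X.Opens := X.basicOpen h ⊓ ⟨(C \ {x})ᶜ, hC'cl.isOpen_compl⟩
  have hVW : V ≤ W := inf_le_left.trans (X.basicOpen_le h)
  have hxV : x ∈ V := ⟨(hmem x hxW h).2 ha₀, fun hxC => hxC.2 rfl⟩
  -- a chart with non-critical point
  have hgood : ∀ (y : X) (hy : y ∈ W), y ∈ V → y ∈ U → ∃ (g : s) (Q : PrimeSpectrum (Localization.Away (g : A))) (l : Fin (r g)),
      Q.asIdeal.comap (algebraMap A _) = (hW.primeIdealOf ⟨y, hy⟩).asIdeal ∧
      (b g).repr (D k (Localization.Away (g : A)) (algebraMap A _ h)) l ∉ Q.asIdeal := by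
    intro y hy hyV hyU
    by_cases hyx : y = x
    · subst hyx
      obtain ⟨g, Q, hQ, h0 | ⟨l, hl⟩⟩ := hℓ a (right_ne_zero_of_mul ha) hyU
      · exfalso
        have hI0 : I g = ⊥ := by
          haveI : IsEmpty (Fin (r g)) := by rw [h0]; infer_instance
          simp [I, Set.range_eq_empty]
        have hyg : y ∈ X.basicOpen (g : A) := (hmem y hy _).2 fun hgp => Q.isPrime.ne_top
          (Ideal.eq_top_of_isUnit_mem _ (show algebraMap A (Localization.Away (g : A)) g ∈ Q.asIdeal from hQ.ge hgp)
            (IsLocalization.Away.algebraMap_isUnit _))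
        have hsub : (X.basicOpen (g : A) : Set X) ⊆ C := fun z hz => by
          have hzW : z ∈ W := X.basicOpen_le _ hz
          obtain ⟨Q', hQ'⟩ := exists_over (g : A) _ ((hmem z hzW _).1 hz)
          exact Set.mem_iUnion.2 ⟨g, Q', by rw [Set.mem_setOf_eq, hI0]; exact bot_le, hpt z hzW g Q' hQ'⟩
        apply hx hyU
        have : ({y} : Set X) = (X.basicOpen (g : A) : Set X) ∩ (C \ {y})ᶜ := by
          refine Set.Subset.antisymm ?_ fun z hz => ?_
          · rintro z rfl; exact ⟨hyg, fun hzC => hzC.2 rfl⟩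
          · by_contra hzy
            exact hz.2 ⟨hsub hz.1, hzy⟩
        rw [this]
        exact (X.basicOpen (g : A)).isOpen.inter hC'cl.isOpen_compl
      · exact ⟨g, Q, l, hQ, by rw [hD]; exact hl⟩
    · obtain ⟨g, hg⟩ := hchart y hy hyU
      obtain ⟨Q, hQ⟩ := exists_over (g : A) _ hg
      obtain ⟨l, hl⟩ : ∃ l, (b g).repr (D k (Localization.Away (g : A)) (algebraMap A _ h)) l ∉ Q.asIdeal := by
        by_contra hcon
        push Not at hcon
        refine hyV.2 ⟨Set.mem_iUnion.2 ⟨g, Q, ?_, hpt y hy g Q hQ⟩, hyx⟩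
        refine Ideal.span_le.2 ?_
        rintro _ ⟨l, rfl⟩
        have := hcon l
        rwa [hD] at this
      exact ⟨g, Q, l, hQ, hl⟩
  -- the morphism
  let ρ : A →+* Γ(X, V) := (X.presheaf.map (homOfLE hVW).op).hom
  have hu : IsUnit (ρ h) := by
    have h1 := RingedSpace.isUnit_res_basicOpen X.toLocallyRingedSpace.toRingedSpace h
    have h2 := h1.map (X.presheaf.map (homOfLE (inf_le_left : V ≤ X.basicOpen h)).op).hom
    convert h2 using 1
    show X.presheaf.map (homOfLE hVW).op h = _
    erw [← CommRingCat.comp_apply, ← X.presheaf.map_comp]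
    rfl
  let ψ : (LaurentPolynomial k) →+* Γ(X, V) := LaurentPolynomial.eval₂ (kap X f V).hom hu.unit
  have hkap : (kap X f V).hom = ρ.comp (algebraMap k A) := by
    refine RingHom.ext fun c => ?_
    show X.presheaf.map (homOfLE le_top).op (f.appTop ((Scheme.ΓSpecIso (CommRingCat.of k)).inv c)) =
      X.presheaf.map (homOfLE hVW).op (X.presheaf.map (homOfLE le_top).op
        (f.appTop ((Scheme.ΓSpecIso (CommRingCat.of k)).inv c)))
    rw [← CommRingCat.comp_apply (X.presheaf.map (homOfLE le_top).op), ← X.presheaf.map_comp]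
    rfl
  refine ⟨V, V.toSpecΓ ≫ Spec.map (CommRingCat.ofHom ψ), hxV, ?_, ?_⟩
  · rw [ι_comp, Category.assoc, ← Spec.map_comp]
    congr 2
    ext c
    show ψ (algebraMap k (LaurentPolynomial k) c) = kap X f V c
    exact LaurentPolynomial.eval₂_C _ _ c
  · have hloc : ∀ y : ↥(V ⊓ U), ∃ E : X.Opens, (y : X) ∈ E ∧ ∃ hE : E ≤ V, E ≤ U ∧
        Smooth (X.homOfLE hE ≫ V.toSpecΓ ≫ Spec.map (CommRingCat.ofHom ψ)) := by
      rintro ⟨y, hyV, hyU⟩
      have hy : y ∈ W := hVW hyV
      obtain ⟨g, Q, l, hQ, hl⟩ := hgood y hy hyV hyU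
      haveI : Algebra.IsStandardSmooth k (Localization.Away (g : A)) := hsS g.2
      obtain ⟨g', hg', hsmooth⟩ := exists_smooth_away k (g : A) h (b g) Q.asIdeal l hl
      obtain ⟨c, hcle, hyc⟩ := hW.exists_basicOpen_le (V := V ⊓ U) ⟨y, hyV, hyU⟩ hy
      let E := X.basicOpen (g' * c)
      have hEc : E ≤ V ⊓ U := by
        refine le_trans ?_ hcle
        show X.basicOpen (g' * c) ≤ _
        rw [X.basicOpen_mul]
        exact inf_le_right
      have hyE : y ∈ E := by
        show y ∈ X.basicOpen (g' * c)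
        rw [X.basicOpen_mul]
        exact ⟨(hmem y hy g').2 (fun hm => hg' (hQ.ge hm)), hyc⟩
      refine ⟨E, hyE, hEc.trans inf_le_left, hEc.trans inf_le_right, ?_⟩
      rw [← Scheme.Opens.toSpecΓ_SpecMap_presheaf_map_assoc E V (hEc.trans inf_le_left), ← Spec.map_comp]
      haveI := hW.isLocalization_basicOpen (g' * c)
      haveI : IsAffine E := hW.basicOpen (g' * c)
      haveI : IsIso E.toSpecΓ := by
        delta Scheme.Opens.toSpecΓ
        infer_instance
      rw [MorphismProperty.cancel_left_of_respectsIso (P := @Smooth), HasRingHomProperty.Spec_iff (P := @Smooth),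
        CommRingCat.hom_comp]
      refine smooth_laurent _ ?_
      letI : Algebra (Polynomial k) A := (Polynomial.aeval (R := k) h).toRingHom.toAlgebra
      haveI : Algebra.Smooth (Polynomial k) (Localization.Away g') := by
        rw [← RingHom.smooth_algebraMap]
        rwa [IsScalarTower.algebraMap_eq (Polynomial k) A (Localization.Away g')]
      haveI : IsScalarTower k (Polynomial k) A := IsScalarTower.of_algHom (Polynomial.aeval (R := k) h)
      haveI : Algebra.FinitePresentation (Polynomial k) A :=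
        Algebra.FinitePresentation.of_restrict_scalars_finitePresentation k _ _
      haveI hs2 : Algebra.Smooth (Polynomial k) (Localization.Away (g' * c)) := by
        rw [← Algebra.basicOpen_subset_smoothLocus_iff_smooth]
        exact (SetLike.coe_subset_coe.2 (PrimeSpectrum.basicOpen_mul_le_left g' c)).trans
          (Algebra.basicOpen_subset_smoothLocus_iff_smooth.2 inferInstance)
      let ε := (IsLocalization.algEquiv (Submonoid.powers (g' * c)) (Localization.Away (g' * c)) Γ(X, E))
      have hsm2 := RingHom.Smooth.propertyIsLocal.respectsIso.1 _ ε.toRingEquiv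
        (RingHom.smooth_algebraMap.2 hs2 : (algebraMap (Polynomial k) (Localization.Away (g' * c))).Smooth)
      convert hsm2 using 1
      refine Polynomial.ringHom_ext (fun c' => ?_) ?_
      · simp only [RingHom.comp_apply]
        show X.presheaf.map _ (ψ (algebraMap (Polynomial k) (LaurentPolynomial k) (Polynomial.C c'))) =
          ε (algebraMap (Polynomial k) (Localization.Away (g' * c)) (Polynomial.C c'))
        rw [LaurentPolynomial.algebraMap_eq_toLaurent, LaurentPolynomial.eval₂_toLaurent, Polynomial.eval₂_C,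
          IsScalarTower.algebraMap_apply (Polynomial k) A (Localization.Away (g' * c)), AlgEquiv.commutes, hkap]
        show X.presheaf.map _ (X.presheaf.map (homOfLE hVW).op (algebraMap k A c')) =
          algebraMap A Γ(X, E) (Polynomial.aeval h (Polynomial.C c'))
        rw [← CommRingCat.comp_apply, ← X.presheaf.map_comp, Polynomial.aeval_C]
        rfl
      · simp only [RingHom.comp_apply]
        show X.presheaf.map _ (ψ (algebraMap (Polynomial k) (LaurentPolynomial k) Polynomial.X)) =
          ε (algebraMap (Polynomial k) (Localization.Away (g' * c)) Polynomial.X)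
        rw [LaurentPolynomial.algebraMap_eq_toLaurent, LaurentPolynomial.eval₂_toLaurent, Polynomial.eval₂_X,
          IsScalarTower.algebraMap_apply (Polynomial k) A (Localization.Away (g' * c)), AlgEquiv.commutes, hu.unit_spec]
        show X.presheaf.map _ (X.presheaf.map (homOfLE hVW).op h) =
          algebraMap A Γ(X, E) (Polynomial.aeval h Polynomial.X)
        rw [← CommRingCat.comp_apply, ← X.presheaf.map_comp, Polynomial.aeval_X]
        rfl
    choose E hyE hEV hEU hEs using hloc
    refine IsZariskiLocalAtSource.of_iSup_eq_top (P := @Smooth) (fun y : ↥(V ⊓ U) => (V ⊓ U).ι ⁻¹ᵁ E y) ?_ fun y => ?_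
    · exact top_unique fun y _ => TopologicalSpace.Opens.mem_iSup.2 ⟨y, hyE y⟩
    · let O := (V ⊓ U).ι ⁻¹ᵁ E y
      have hrange : Set.range (O.ι ≫ (V ⊓ U).ι) = Set.range (E y).ι := by
        rw [Scheme.Hom.comp_base, TopCat.coe_comp, Set.range_comp, Scheme.Opens.range_ι, Scheme.Opens.range_ι]
        show (V ⊓ U).ι '' ((V ⊓ U).ι ⁻¹' (E y : Set X)) = _
        rw [Set.image_preimage_eq_inter_range, Scheme.Opens.range_ι, Set.inter_eq_left]
        exact fun z hz => ⟨hEV y hz, hEU y hz⟩
      let e := IsOpenImmersion.isoOfRangeEq (O.ι ≫ (V ⊓ U).ι) (E y).ι hrange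
      have he : O.ι ≫ X.homOfLE (inf_le_left : V ⊓ U ≤ V) = e.hom ≫ X.homOfLE (hEV y) := by
        rw [← cancel_mono V.ι, Category.assoc, Category.assoc, Scheme.homOfLE_ι, Scheme.homOfLE_ι,
          IsOpenImmersion.isoOfRangeEq_hom_fac]
      show Smooth (O.ι ≫ _)
      rw [← Category.assoc, he, Category.assoc, MorphismProperty.cancel_left_of_respectsIso (P := @Smooth)]
      exact hEs y

end Groth.Agent.MovGenLib
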